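import Mathlib

/-!
# Invertible modules: functionals, ideals of values, products, base change
-/

namespace H9HP
open TensorProduct Module Polynomial IsLocalRing

section Inv
variable {C : Type*} [CommRing C] {N : Type*} [AddCommGroup N] [Module C N]
  [Module.Invertible C N]

/-- for an invertible module, `f m • y = f y • m`. -/
theorem dual_swap (f : N →ₗ[C] C) (m y : N) : f m • y = f y • m := by
  have h := Module.Invertible.tmul_comm (R := C) (m₁ := m) (m₂ := y)
  have := congrArg ((TensorProduct.lid C N).toLinearMap ∘ₗ f.rTensor N) h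
  simpa using this

/-- the evaluations `f m` generate the unit ideal. -/
theorem exists_dual_sum_eq_one :
    ∃ S : Finset (Module.Dual C N × N), (1 : C) = ∑ i ∈ S, i.1 i.2 := by
  obtain ⟨S, hS⟩ := ((Module.Invertible.linearEquiv C N).symm 1).exists_finset
  refine ⟨S, ?_⟩
  have := (LinearEquiv.symm_apply_eq _).mp hS
  rw [this, map_sum]
  refine Finset.sum_congr rfl fun i _ => ?_
  simp [Module.Invertible.linearEquiv]

/-- an invertible module has a functional not vanishing at a given prime. -/
theorem exists_dual_notMem_prime (𝔭 : Ideal C) [𝔭.IsPrime] :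
    ∃ (f : N →ₗ[C] C) (m : N), f m ∉ 𝔭 := by
  obtain ⟨S, hS⟩ := exists_dual_sum_eq_one (C := C) (N := N)
  by_contra hcon
  push Not at hcon
  have : (1 : C) ∈ 𝔭 := by
    rw [hS]
    exact Ideal.sum_mem _ fun i _ => hcon i.1 i.2
  exact (Ideal.IsPrime.ne_top ‹_›) ((Ideal.eq_top_iff_one _).mpr this)

/-- a functional with a regular value is injective -/
theorem dual_injective_of_regular (f : N →ₗ[C] C) (m : N) (hr : f m ∈ nonZeroDivisors C) :
    Function.Injective f := by
  rw [← LinearMap.ker_eq_bot, LinearMap.ker_eq_bot']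
  intro y hy
  have h1 := dual_swap f m y
  rw [hy, zero_smul] at h1
  exact Module.Flat.isSMulRegular_of_nonZeroDivisors hr (by simpa using h1)

/-- the product of the two ideals of values. -/
theorem range_mul_range (f : N →ₗ[C] C) (m : N) :
    LinearMap.range f * LinearMap.range (LinearMap.applyₗ m : Module.Dual C N →ₗ[C] C) =
      Ideal.span {f m} := by
  apply le_antisymm
  · rw [Ideal.mul_le]
    rintro _ ⟨y, rfl⟩ _ ⟨φ, rfl⟩
    rw [Ideal.mem_span_singleton']
    refine ⟨φ y, ?_⟩
    have h1 := congrArg φ (dual_swap f m y)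
    rw [map_smul, map_smul, smul_eq_mul, smul_eq_mul] at h1
    show φ y * f m = f y * φ m
    rw [mul_comm, h1]
  · rw [Ideal.span_singleton_le_iff_mem]
    obtain ⟨S, hS⟩ := exists_dual_sum_eq_one (C := C) (N := N)
    have h1 : f m = ∑ i ∈ S, f i.2 * i.1 m := by
      calc f m = f m * 1 := (mul_one _).symm
        _ = ∑ i ∈ S, f m * i.1 i.2 := by rw [hS, Finset.mul_sum]
        _ = ∑ i ∈ S, f i.2 * i.1 m := by
            refine Finset.sum_congr rfl fun i _ => ?_
            have h2 := congrArg i.1 (dual_swap f m i.2)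
            rw [map_smul, map_smul, smul_eq_mul, smul_eq_mul] at h2
            exact h2
    rw [h1]
    exact Ideal.sum_mem _ fun i _ => Ideal.mul_mem_mul ⟨i.2, rfl⟩ ⟨i.1, rfl⟩

end Inv

section Prod
variable {A : Type*} [CommRing A]

/-- an ideal with `I * I' = (D)`, `D` regular, is an invertible module. -/
theorem invertible_of_mul_eq_span (I I' : Ideal A) (D : A) (hD : D ∈ nonZeroDivisors A)
    (h : I * I' = Ideal.span {D}) : Module.Invertible A I := by
  let AD := Localization.Away D
  have hinj : Function.Injective (algebraMap A AD) :=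
    IsLocalization.injective AD (Submonoid.powers_le.mpr hD)
  haveI : FaithfulSMul A AD := (faithfulSMul_iff_algebraMap_injective A AD).mpr hinj
  let φ : A →ₐ[A] AD := Algebra.ofId A AD
  let u : Submodule A AD := Submodule.map φ.toLinearMap I
  let u' : Submodule A AD := Submodule.map φ.toLinearMap I'
  let w : Submodule A AD := Submodule.span A {IsLocalization.Away.invSelf (S := AD) D}
  have h1 : u * (u' * w) = 1 := by
    rw [← mul_assoc]
    have h2 : u * u' = Submodule.map φ.toLinearMap (I * I') := (Submodule.map_mul _ _ _).symm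
    rw [h2, h]
    have h3 : Submodule.map φ.toLinearMap (Ideal.span {D}) = Submodule.span A {algebraMap A AD D} := by
      rw [Ideal.span, Submodule.map_span, Set.image_singleton]
      rfl
    rw [h3, Submodule.span_mul_span, Set.singleton_mul_singleton,
      IsLocalization.Away.mul_invSelf, Submodule.one_eq_span]
  let U : (Submodule A AD)ˣ := Units.mkOfMulEqOne u (u' * w) h1
  haveI : Module.Invertible A (U : Submodule A AD) := inferInstance
  have e : I ≃ₗ[A] (U : Submodule A AD) :=
    Submodule.equivMapOfInjective φ.toLinearMap hinj I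
  exact Module.Invertible.congr e.symm

end Prod

section Tensor
variable {A : Type*} [CommRing A] {L : Type*} [CommRing L] [Algebra A L]

/-- multiplication map `L ⊗ I → L` -/
noncomputable def theta (I : Ideal A) : L ⊗[A] I →ₗ[L] L :=
  ((Algebra.linearMap A L) ∘ₗ I.subtype).liftBaseChange L

theorem theta_tmul (I : Ideal A) (c : L) (a : I) :
    theta (L := L) I (c ⊗ₜ a) = c * algebraMap A L a := by
  simp [theta]

theorem range_theta (I : Ideal A) :
    LinearMap.range (theta (L := L) I) = I.map (algebraMap A L) := by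
  apply le_antisymm
  · rintro _ ⟨z, rfl⟩
    induction z using TensorProduct.induction_on with
    | zero => simp
    | tmul c a =>
      rw [theta_tmul]
      exact Ideal.mul_mem_left _ _ (Ideal.mem_map_of_mem _ a.2)
    | add x y hx hy => rw [map_add]; exact Ideal.add_mem _ hx hy
  · rw [Ideal.map_le_iff_le_comap]
    intro a ha
    exact ⟨1 ⊗ₜ ⟨a, ha⟩, by rw [theta_tmul, one_mul]⟩

theorem nonempty_tensor_equiv_map (I : Ideal A) [Module.Invertible A I]
    (J : Ideal L) (hJ : I.map (algebraMap A L) = J) [Module.Invertible L J] :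
    Nonempty (L ⊗[A] I ≃ₗ[L] J) := by
  have hr : LinearMap.range (theta (L := L) I) = J := (range_theta I).trans hJ
  let θ' : L ⊗[A] I →ₗ[L] J :=
    (LinearEquiv.ofEq _ _ hr).toLinearMap ∘ₗ (theta (L := L) I).rangeRestrict
  have hs : Function.Surjective θ' :=
    (LinearEquiv.ofEq _ _ hr).surjective.comp (LinearMap.surjective_rangeRestrict _)
  exact ⟨LinearEquiv.ofBijective θ' (Module.Invertible.bijective_of_surjective hs)⟩

end Tensor

section Poly
variable {R : Type*} [CommRing R] [IsLocalRing R]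

/-- an invertible module over `R[X]`, `R` local, has a functional with a value in `1 + m R[X]`. -/
theorem exists_dual_poly (M : Type*) [AddCommGroup M] [Module R[X] M] [Module.Invertible R[X] M] :
    ∃ (f : M →ₗ[R[X]] R[X]) (x : M), f x - 1 ∈ (maximalIdeal R).map (C : R →+* R[X]) := by
  set 𝔞 := (maximalIdeal R).map (C : R →+* R[X]) with h𝔞
  letI : Field (R ⧸ maximalIdeal R) := Ideal.Quotient.field _
  let e : (R ⧸ maximalIdeal R)[X] ≃+* R[X] ⧸ 𝔞 :=
    Ideal.polynomialQuotientEquivQuotientPolynomial (maximalIdeal R)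
  haveI : IsDomain (R[X] ⧸ 𝔞) := e.symm.toMulEquiv.isDomain
  haveI : IsPrincipalIdealRing (R[X] ⧸ 𝔞) :=
    IsPrincipalIdealRing.of_surjective e.toRingHom e.surjective
  obtain ⟨ε⟩ := Module.Invertible.free_iff_linearEquiv.mp
    (inferInstance : Module.Free (R[X] ⧸ 𝔞) ((R[X] ⧸ 𝔞) ⊗[R[X]] M))
  have hsurj : ∀ z : (R[X] ⧸ 𝔞) ⊗[R[X]] M, ∃ x : M, z = 1 ⊗ₜ x := by
    intro z
    induction z using TensorProduct.induction_on with
    | zero => exact ⟨0, by simp⟩
    | tmul a m =>
      obtain ⟨a', rfl⟩ := Ideal.Quotient.mk_surjective a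
      refine ⟨a' • m, ?_⟩
      rw [TensorProduct.tmul_smul, TensorProduct.smul_tmul']
      congr 1
      have : (a' • (1 : R[X] ⧸ 𝔞)) = Ideal.Quotient.mk 𝔞 (a' • (1 : R[X])) := rfl
      rw [this, smul_eq_mul, mul_one]
    | add z₁ z₂ h₁ h₂ =>
      obtain ⟨x₁, rfl⟩ := h₁
      obtain ⟨x₂, rfl⟩ := h₂
      exact ⟨x₁ + x₂, by rw [TensorProduct.tmul_add]⟩
  obtain ⟨x, hx⟩ := hsurj (ε.symm 1)
  let g : M →ₗ[R[X]] (R[X] ⧸ 𝔞) :=
    (ε.toLinearMap.restrictScalars R[X]) ∘ₗ (TensorProduct.mk R[X] (R[X] ⧸ 𝔞) M 1)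
  obtain ⟨f, hf⟩ := Module.projective_lifting_property (Submodule.mkQ 𝔞) g
    (Submodule.mkQ_surjective 𝔞)
  refine ⟨f, x, ?_⟩
  have h1 : Submodule.mkQ 𝔞 (f x) = g x := LinearMap.congr_fun hf x
  have h2 : g x = 1 := by
    show ε (1 ⊗ₜ x) = 1
    rw [← hx, LinearEquiv.apply_symm_apply]
  rw [h2] at h1
  have h3 : Ideal.Quotient.mk 𝔞 (f x - 1) = 0 := by
    rw [map_sub, map_one]
    have : Ideal.Quotient.mk 𝔞 (f x) = 1 := h1
    rw [this, sub_self]
  exact Ideal.Quotient.eq_zero_iff_mem.mp h3

end Poly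

end H9HP
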