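import Mathlib
import Groth.Prelude.Def_Hens2
import Groth.Agent.Lib.Helper9.HW.Laurent2
import Groth.Agent.Lib.Helper9.HW.Exists

namespace H9HP
open Polynomial IsLocalRing H9HW
universe u v

section W
variable {R : Type u} [CommRing R] [HenselianLocalRing R] {B : Type u} [CommRing B] [Algebra R B]
  [Algebra R[X] B] [IsScalarTower R R[X] B]
  (hB : Hens2.IsPairHenselization R[X] (Ideal.span {(X : R[X])}) B)
  {L : Type v} [CommRing L] [Algebra B L] [Algebra R L] [IsScalarTower R B L]
  [IsLocalization.Away (algebraMap R[X] B X) L]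
  (ψ : R[X] →ₐ[R] L) (hψ : ψ X * algebraMap B L (algebraMap R[X] B X) = 1)

include hB in
theorem pow_notMem_map (n : ℕ) :
    (algebraMap R[X] B X) ^ n ∉ (maximalIdeal R).map (algebraMap R B) := by
  intro hcon
  have h1 : algebraMap R[X] B (X ^ n) ∈ Ideal.span {(algebraMap R[X] B X) ^ (n + 1)} ⊔
      (maximalIdeal R).map (algebraMap R B) := by
    rw [map_pow]; exact Ideal.mem_sup_right hcon
  have h2 := coeff_mem_of_mem_sup hB (n + 1) (X ^ n) h1 n (Nat.lt_succ_self n)
  rw [coeff_X_pow, if_pos rfl] at h2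
  exact (IsLocalRing.maximalIdeal.isMaximal R).ne_top ((Ideal.eq_top_iff_one _).mpr h2)

omit [HenselianLocalRing R] [Algebra R[X] B] [IsScalarTower R R[X] B] [IsLocalization.Away (algebraMap R[X] B X) L] in
theorem map_map_eq [IsLocalRing R] :
    ((maximalIdeal R).map (algebraMap R B)).map (algebraMap B L) =
      (maximalIdeal R).map (algebraMap R L) := by
  rw [Ideal.map_map, ← IsScalarTower.algebraMap_eq]

include hB in
theorem notMem_of_notMem {h : L} (hh : h ∉ (maximalIdeal R).map (algebraMap R L)) {n : ℕ} {b : B}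
    (hb : h * (algebraMap B L (algebraMap R[X] B X)) ^ n = algebraMap B L b) :
    b ∉ (maximalIdeal R).map (algebraMap R B) := by
  intro hcon
  apply hh
  have h1 : algebraMap B L b ∈ (maximalIdeal R).map (algebraMap R L) := by
    rw [← map_map_eq (B := B)]; exact Ideal.mem_map_of_mem _ hcon
  have hu : IsUnit ((algebraMap B L (algebraMap R[X] B X)) ^ n) :=
    (IsLocalization.Away.algebraMap_isUnit _).pow _
  obtain ⟨u, hu⟩ := hu
  have : h = algebraMap B L b * ((u⁻¹ : Lˣ) : L) := by
    rw [← hb, ← hu, mul_assoc, Units.mul_inv, mul_one]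
  rw [this]
  exact Ideal.mul_mem_right _ _ h1

include hB in
theorem map_ne_top : (maximalIdeal R).map (algebraMap R L) ≠ ⊤ := by
  intro hcon
  have h1 : (1 : L) ∈ ((maximalIdeal R).map (algebraMap R B)).map (algebraMap B L) := by
    rw [map_map_eq, hcon]; exact Submodule.mem_top
  rw [IsLocalization.mem_map_algebraMap_iff (Submonoid.powers (algebraMap R[X] B X))] at h1
  obtain ⟨⟨⟨a, ha⟩, ⟨_, n, rfl⟩⟩, h2⟩ := h1
  simp only [one_mul] at h2
  obtain ⟨⟨_, k, rfl⟩, h3⟩ := (IsLocalization.eq_iff_exists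
    (Submonoid.powers (algebraMap R[X] B X)) L).mp h2
  simp only at h3
  apply pow_notMem_map hB (k + n)
  rw [pow_add, h3]
  exact Ideal.mul_mem_left _ _ ha

include hB hψ in
/-- Weierstrass preparation in `L`. -/
theorem exists_isU_factor (h : L) (hh : h ∉ (maximalIdeal R).map (algebraMap R L)) :
    ∃ (Q : R[X]) (v : Lˣ), IsU Q ∧ h = ψ Q * v := by
  obtain ⟨n, b, hb⟩ := IsLocalization.Away.surj (algebraMap R[X] B X) h
  have hbm := notMem_of_notMem hB hh hb
  obtain ⟨P, u, hP, hPu⟩ := exists_factor hB b hbm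
  have hrel := ψ_reflect_mul_pow' (B := B) ψ hψ P.natDegree P le_rfl
  have hτ : IsUnit (algebraMap B L (algebraMap R[X] B X)) :=
    IsLocalization.Away.algebraMap_isUnit _
  obtain ⟨τ, hτ'⟩ := hτ
  refine ⟨reflect P.natDegree P, τ ^ P.natDegree * Units.map (algebraMap B L).toMonoidHom u *
    (τ ^ n)⁻¹, hP.isU_reflect, ?_⟩
  have h1 : h = algebraMap B L b * ((τ ^ n)⁻¹ : Lˣ) := by
    rw [← hb, ← hτ', ← Units.val_pow_eq_pow_val, mul_assoc, Units.mul_inv, mul_one]
  rw [h1, hPu, map_mul]
  have h2 : algebraMap B L (algebraMap R[X] B P) = algL R B L P := rfl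
  rw [h2, ← hrel, ← hτ']
  push_cast
  simp only [Units.coe_map, RingHom.toMonoidHom_eq_coe, MonoidHom.coe_coe]
  ring

omit [HenselianLocalRing R] in
theorem IsU.mem_nonZeroDivisors [IsLocalRing R] {Q : R[X]} (hQ : IsU Q) :
    Q ∈ nonZeroDivisors R[X] := by
  rw [mem_nonZeroDivisors_iff_right]
  intro p hp
  have h1 : (p : PowerSeries R) * (Q : PowerSeries R) = 0 := by
    rw [← Polynomial.coe_mul, hp, Polynomial.coe_zero]
  have h2 : IsUnit (Q : PowerSeries R) := by
    rw [PowerSeries.isUnit_iff_constantCoeff]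
    have : PowerSeries.constantCoeff (Q : PowerSeries R) = Q.coeff 0 := by
      rw [← PowerSeries.coeff_zero_eq_constantCoeff_apply, Polynomial.coeff_coe]
    rw [this, hQ.1]
    exact isUnit_one
  have h3 : (p : PowerSeries R) = 0 := by
    have := congrArg (· * ((h2.unit⁻¹ : (PowerSeries R)ˣ) : PowerSeries R)) h1
    simpa [mul_assoc] using this
  exact Polynomial.coe_eq_zero_iff.mp h3

include hB hψ in
theorem psi_mem_nonZeroDivisors {Q : R[X]} (hQ : IsU Q) : ψ Q ∈ nonZeroDivisors L := by
  have hW : IsW (reflect Q.natDegree Q) := hQ.isW_reflect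
  have hrel := ψ_reflect_mul_pow' (B := B) ψ hψ Q.natDegree (reflect Q.natDegree Q)
    (natDegree_reflect_le.trans (by simp))
  rw [reflect_invol'] at hrel
  have h1 : IsSMulRegular R[X] (reflect Q.natDegree Q) :=
    (hW.1.isRegular).left.isSMulRegular
  haveI : Module.Flat R[X] B := Groth.Agent.Helper7.Hens.flat_of_isPairHenselization hB
  have h2 : IsSMulRegular B (algebraMap R[X] B (reflect Q.natDegree Q)) := IsSMulRegular.of_flat h1
  have h3 : IsSMulRegular L (algebraMap B L (algebraMap R[X] B (reflect Q.natDegree Q))) :=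
    IsSMulRegular.of_isLocalization L (Submonoid.powers (algebraMap R[X] B X)) h2
  have h4 : IsSMulRegular L (ψ Q * (algebraMap B L (algebraMap R[X] B X)) ^ Q.natDegree) := by
    rw [hrel]; exact h3
  have h5 : IsSMulRegular L (ψ Q) := by
    intro a b hab
    apply h4
    simp only [smul_eq_mul] at hab ⊢
    rw [mul_right_comm, hab, mul_right_comm]
  rw [mem_nonZeroDivisors_iff_right]
  intro a ha
  apply h5
  simp only [smul_eq_mul, mul_zero]
  rw [mul_comm]; exact ha

end W

end H9HP
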