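import Mathlib
import Groth.Prelude.Def_Hens2
import Groth.Agent.Lib.Helper9.HP.Inv
import Groth.Agent.Lib.Helper9.HP.Weier
import Groth.Agent.S15773

namespace H9HP
open Polynomial IsLocalRing H9HW TensorProduct
universe u v

section Unit
variable {R : Type u} [CommRing R] [IsLocalRing R]

theorem exists_unit_mul_isU (g : R[X]) (hg : g - 1 ∈ (maximalIdeal R).map (C : R →+* R[X])) :
    ∃ u : Rˣ, IsU (C (u : R) * g) := by
  have hc : ∀ n, (g - 1).coeff n ∈ maximalIdeal R := Ideal.mem_map_C_iff.mp hg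
  have hu : IsUnit (g.coeff 0) := by
    by_contra hcon
    have h2 : g.coeff 0 ∈ maximalIdeal R := hcon
    have h3 : (1 : R) ∈ maximalIdeal R := by
      have h4 := hc 0
      rw [coeff_sub, coeff_one_zero] at h4
      have := Ideal.sub_mem _ h2 h4
      simpa using this
    exact (IsLocalRing.maximalIdeal.isMaximal R).ne_top ((Ideal.eq_top_iff_one _).mpr h3)
  obtain ⟨u, hu⟩ := hu
  refine ⟨u⁻¹, ?_, fun j hj => ?_⟩
  · rw [coeff_C_mul, ← hu, Units.inv_mul]
  · rw [coeff_C_mul]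
    have h4 := hc j
    rw [coeff_sub, coeff_one, if_neg (by omega), sub_zero] at h4
    exact Ideal.mul_mem_left _ _ h4

end Unit

section Main
variable {R : Type u} [CommRing R] [HenselianLocalRing R] {B : Type u} [CommRing B] [Algebra R B]
  [Algebra R[X] B] [IsScalarTower R R[X] B]
  (hB : Hens2.IsPairHenselization R[X] (Ideal.span {(X : R[X])}) B)
  {L : Type v} [CommRing L] [Algebra B L] [Algebra R L] [IsScalarTower R B L]
  [IsLocalization.Away (algebraMap R[X] B X) L]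
  (ψ : R[X] →ₐ[R] L) (hψ : ψ X * algebraMap B L (algebraMap R[X] B X) = 1)
  [Algebra R[X] L] (hψa : algebraMap R[X] L = ψ.toRingHom)

omit [HenselianLocalRing R] [IsLocalization.Away (algebraMap R[X] B X) L] [Algebra R[X] L]
  [Algebra R B] [Algebra R[X] B] [IsScalarTower R R[X] B] [Algebra B L] [IsScalarTower R B L] in
theorem psi_sub_one_mem [IsLocalRing R] {Q : R[X]} (hQ : IsU Q) :
    ψ Q - 1 ∈ (maximalIdeal R).map (algebraMap R L) := by
  have h1 := Ideal.mem_map_of_mem ψ.toRingHom hQ.one_sub_mem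
  rw [Ideal.map_map] at h1
  have h2 : ψ.toRingHom.comp (algebraMap R R[X]) = algebraMap R L := by
    ext r; exact ψ.commutes r
  rw [h2] at h1
  have : ψ Q - 1 = -(ψ.toRingHom (1 - Q)) := by
    simp
  rw [this]
  exact Ideal.neg_mem_iff _ |>.mpr h1

omit [HenselianLocalRing R] [IsLocalization.Away (algebraMap R[X] B X) L] [Algebra R[X] L]
  [Algebra R B] [Algebra R[X] B] [IsScalarTower R R[X] B] [Algebra B L] [IsScalarTower R B L] in
theorem sup_eq_top_of_psi_mem [IsLocalRing R] {Q : R[X]} (hQ : IsU Q) (J : Ideal L)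
    (hJ : ψ Q ∈ J) : J ⊔ (maximalIdeal R).map (algebraMap R L) = ⊤ := by
  rw [Ideal.eq_top_iff_one]
  have : (1 : L) = ψ Q + -(ψ Q - 1) := by ring
  rw [this]
  exact Ideal.add_mem _ (Ideal.mem_sup_left hJ)
    (Ideal.mem_sup_right (Ideal.neg_mem_iff _ |>.mpr (psi_sub_one_mem ψ hQ)))

omit [HenselianLocalRing R] in
theorem sup_eq_top_of_isU_mem [IsLocalRing R] {Q : R[X]} (hQ : IsU Q) (I : Ideal R[X])
    (hI : Q ∈ I) : I ⊔ (maximalIdeal R).map (algebraMap R R[X]) = ⊤ := by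
  rw [Ideal.eq_top_iff_one]
  have : (1 : R[X]) = Q + (1 - Q) := by ring
  rw [this]
  exact Ideal.add_mem _ (Ideal.mem_sup_left hI) (Ideal.mem_sup_right hQ.one_sub_mem)

include hB hψ hψa in
/-- an invertible `R[s]`-module that becomes free over `L` is free. -/
theorem free_of_free_baseChange (M : Type*) [AddCommGroup M] [Module R[X] M]
    [Module.Invertible R[X] M] (hfree : Module.Free L (L ⊗[R[X]] M)) : Module.Free R[X] M := by
  obtain ⟨hA, -⟩ := Groth.Agent.S15773.Aux.main' hB ψ hψ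
  obtain ⟨f₀, x, hfx⟩ := exists_dual_poly (R := R) M
  obtain ⟨u, hu⟩ := exists_unit_mul_isU (f₀ x) hfx
  set f : M →ₗ[R[X]] R[X] := (C (u : R)) • f₀ with hf
  set Q : R[X] := f x with hQdef
  have hQ : IsU Q := hu
  have hinj : Function.Injective f := dual_injective_of_regular f x (IsU.mem_nonZeroDivisors hQ)
  set I : Ideal R[X] := LinearMap.range f with hIdef
  have eMI : M ≃ₗ[R[X]] I := LinearEquiv.ofInjective f hinj
  have hQI : Q ∈ I := ⟨x, rfl⟩
  have hItop := sup_eq_top_of_isU_mem hQ I hQI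
  obtain ⟨hI1, hI2, -⟩ := hA I hItop
  -- the extended ideal is principal
  obtain ⟨ε⟩ := Module.Invertible.free_iff_linearEquiv.mp hfree
  let ε' : L ≃ₗ[L] L ⊗[R[X]] I :=
    ε.symm ≪≫ₗ (TensorProduct.AlgebraTensorModule.congr (LinearEquiv.refl L L) eMI)
  set h : L := theta (L := L) I (ε' 1) with hh
  have hJ : I.map (algebraMap R[X] L) = Ideal.span {h} := by
    rw [← range_theta]
    apply le_antisymm
    · rintro _ ⟨z, rfl⟩
      obtain ⟨c, rfl⟩ := ε'.surjective z
      rw [Ideal.mem_span_singleton']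
      refine ⟨c, ?_⟩
      have : c = c • (1 : L) := by simp
      conv_rhs => rw [this, map_smul, map_smul]
      rfl
    · rw [Ideal.span_singleton_le_iff_mem]
      exact ⟨ε' 1, rfl⟩
  rw [hψa] at hJ
  have hh1 : h ∉ (maximalIdeal R).map (algebraMap R L) := by
    intro hcon
    apply map_ne_top (B := B) (L := L) hB
    rw [← hI2, hJ]
    exact (sup_eq_right.mpr ((Ideal.span_singleton_le_iff_mem _).mpr hcon)).symm
  obtain ⟨Q', v, hQ', hhv⟩ := exists_isU_factor hB ψ hψ h hh1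
  have hJ' : I.map ψ.toRingHom = (Ideal.span {Q'}).map ψ.toRingHom := by
    rw [hJ, Ideal.map_span, Set.image_singleton, hhv]
    exact Ideal.span_singleton_mul_right_unit v.isUnit _
  obtain ⟨hI1', -, -⟩ := hA (Ideal.span {Q'})
    (sup_eq_top_of_isU_mem hQ' _ (Ideal.subset_span rfl))
  have hIQ : I = Ideal.span {Q'} := by rw [← hI1, hJ', hI1']
  have hreg : Function.Injective (LinearMap.toSpanSingleton R[X] R[X] Q') := by
    intro a b hab
    simp only [LinearMap.toSpanSingleton_apply, smul_eq_mul] at hab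
    exact (mul_cancel_right_mem_nonZeroDivisors (IsU.mem_nonZeroDivisors hQ')).mp hab
  have e2 : R[X] ≃ₗ[R[X]] I :=
    LinearEquiv.ofInjective _ hreg ≪≫ₗ LinearEquiv.ofEq _ _ (by
      rw [hIQ]; ext y; simp [Ideal.mem_span_singleton', LinearMap.toSpanSingleton_apply])
  exact Module.Free.of_equiv (e2 ≪≫ₗ eMI.symm)

include hB hψ hψa in
/-- every invertible `L`-module is extended from an invertible ideal of `R[s]`. -/
theorem exists_invertible_descent (N : Type*) [AddCommGroup N] [Module L N]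
    [Module.Invertible L N] :
    ∃ I : Ideal R[X], Module.Invertible R[X] I ∧ Nonempty (L ⊗[R[X]] I ≃ₗ[L] N) := by
  obtain ⟨hA, hC⟩ := Groth.Agent.S15773.Aux.main' hB ψ hψ
  obtain ⟨𝔭, h𝔭max, h𝔭⟩ := Ideal.exists_le_maximal _ (map_ne_top (B := B) (L := L) hB)
  haveI := h𝔭max.isPrime
  obtain ⟨f, m₀, hfm⟩ := exists_dual_notMem_prime (N := N) 𝔭
  set g : L := f m₀ with hg
  have hg1 : g ∉ (maximalIdeal R).map (algebraMap R L) := fun hcon => hfm (h𝔭 hcon)
  obtain ⟨Q, v, hQ, hgv⟩ := exists_isU_factor hB ψ hψ g hg1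
  have hψQ : ψ Q ∈ nonZeroDivisors L := psi_mem_nonZeroDivisors hB ψ hψ hQ
  have hgnz : g ∈ nonZeroDivisors L := by
    rw [hgv]
    exact mul_mem hψQ (IsUnit.mem_nonZeroDivisors v.isUnit)
  have hinj : Function.Injective f := dual_injective_of_regular f m₀ hgnz
  set J : Ideal L := LinearMap.range f with hJdef
  set J' : Ideal L := LinearMap.range (LinearMap.applyₗ m₀ : Module.Dual L N →ₗ[L] L) with hJ'def
  have eNJ : N ≃ₗ[L] J := LinearEquiv.ofInjective f hinj
  have hJJ' : J * J' = Ideal.span {ψ Q} := by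
    rw [hJdef, hJ'def, range_mul_range f m₀, ← hg, hgv]
    exact Ideal.span_singleton_mul_right_unit v.isUnit _
  have hψQg : ψ Q = g * ((v⁻¹ : Lˣ) : L) := by
    rw [hgv, mul_assoc, Units.mul_inv, mul_one]
  have hQJ : ψ Q ∈ J := by
    rw [hψQg]; exact Ideal.mul_mem_right _ _ ⟨m₀, rfl⟩
  have hQJ' : ψ Q ∈ J' := by
    rw [hψQg]; exact Ideal.mul_mem_right _ _ ⟨f, rfl⟩
  obtain ⟨hJ1, hJ2⟩ := hC J (sup_eq_top_of_psi_mem ψ hQ J hQJ)
  obtain ⟨hJ1', hJ2'⟩ := hC J' (sup_eq_top_of_psi_mem ψ hQ J' hQJ')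
  set I : Ideal R[X] := J.comap ψ.toRingHom with hI
  set I' : Ideal R[X] := J'.comap ψ.toRingHom with hI'
  have hII'top : I * I' ⊔ (maximalIdeal R).map (algebraMap R R[X]) = ⊤ := by
    rw [Ideal.eq_top_iff_one]
    have h1 : (1 : R[X]) ∈ I ⊔ (maximalIdeal R).map (algebraMap R R[X]) := by
      rw [hJ2]; exact Submodule.mem_top
    have h2 : (1 : R[X]) ∈ I' ⊔ (maximalIdeal R).map (algebraMap R R[X]) := by
      rw [hJ2']; exact Submodule.mem_top
    obtain ⟨a, ha, μ, hμ, haμ⟩ := Submodule.mem_sup.mp h1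
    obtain ⟨a', ha', μ', hμ', haμ'⟩ := Submodule.mem_sup.mp h2
    have : (1 : R[X]) = a * a' + (a * μ' + μ * a' + μ * μ') := by
      calc (1 : R[X]) = (a + μ) * (a' + μ') := by rw [haμ, haμ', one_mul]
        _ = _ := by ring
    rw [this]
    refine Ideal.add_mem _ (Ideal.mem_sup_left (Ideal.mul_mem_mul ha ha')) (Ideal.mem_sup_right ?_)
    exact Ideal.add_mem _ (Ideal.add_mem _ (Ideal.mul_mem_left _ _ hμ')
      (Ideal.mul_mem_right _ _ hμ)) (Ideal.mul_mem_left _ _ hμ')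
  have hmap : (I * I').map ψ.toRingHom = (Ideal.span {Q}).map ψ.toRingHom := by
    rw [Ideal.map_mul, hJ1, hJ1', hJJ', Ideal.map_span, Set.image_singleton]
    rfl
  obtain ⟨h1, -, -⟩ := hA (I * I') hII'top
  obtain ⟨h2, -, -⟩ := hA (Ideal.span {Q}) (sup_eq_top_of_isU_mem hQ _ (Ideal.subset_span rfl))
  have hII' : I * I' = Ideal.span {Q} := by rw [← h1, hmap, h2]
  haveI hinvI : Module.Invertible R[X] I :=
    invertible_of_mul_eq_span I I' Q (IsU.mem_nonZeroDivisors hQ) hII'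
  haveI : Module.Invertible L J := Module.Invertible.congr eNJ
  have hmapI : I.map (algebraMap R[X] L) = J := by rw [hψa]; exact hJ1
  obtain ⟨e⟩ := nonempty_tensor_equiv_map I J hmapI
  exact ⟨I, hinvI, ⟨e ≪≫ₗ eNJ.symm⟩⟩

end Main

end H9HP
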